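import Mathlib
import Cfsg.Agent.Lib.Helper12.KS.Defs
import Cfsg.Agent.Lib.Helper38.P8.Ext

/-!
# S0518 package [O4]: every involution of `P ≅ S₄ × C₂` other than `c` lies with `c` in an
elementary abelian subgroup of order 8 (helper97)
-/

set_option autoImplicit false
open Cfsg

namespace Cfsg.Agent.Lib.Helper97.KS

open Cfsg.Agent.Lib.Helper12.KS

universe u

/-- adjoining a commuting involution `d ∉ N` to a subgroup `N` of exponent 2. -/
theorem step_invol {Γ : Type u} [Group Γ] (N : Subgroup Γ) (d : Γ)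
    (hc : ∀ n ∈ N, n * d = d * n) (hd1 : d * d = 1) (hdN : d ∉ N) (hN : ∀ n ∈ N, n * n = 1) :
    Nat.card ↥(N ⊔ Subgroup.zpowers d) = 2 * Nat.card ↥N ∧
      (∀ x ∈ N ⊔ Subgroup.zpowers d, x * x = 1) ∧
      (∀ x, x ∈ N ⊔ Subgroup.zpowers d ↔ x ∈ N ∨ d⁻¹ * x ∈ N) := by
  have hdd : d * d ∈ N := by rw [hd1]; exact N.one_mem
  have hmem := Cfsg.Agent.Lib.Helper38.P8.mem_sup_zpowers_iff N d hc hdd
  refine ⟨Cfsg.Agent.Lib.Helper38.P8.card_sup_zpowers N d hc hdN hdd, ?_, hmem⟩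
  intro x hx
  rcases (hmem x).mp hx with h | h
  · exact hN x h
  · have h1 := hN _ h
    have h2 := hc _ h
    have hdi : d⁻¹ = d := inv_eq_of_mul_eq_one_left hd1
    rw [hdi] at h1 h2
    calc x * x = (d * (d * x)) * (d * (d * x)) := by rw [← mul_assoc d d x, hd1, one_mul]
      _ = d * ((d * x) * d) * (d * x) := by simp only [mul_assoc]
      _ = d * (d * (d * x)) * (d * x) := by rw [h2]
      _ = (d * d) * ((d * x) * (d * x)) := by simp only [mul_assoc]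
      _ = 1 := by rw [hd1, h1, one_mul]

/-- the model element `c`. -/
def cM : Mdl := (1, Multiplicative.ofAdd 1)

set_option maxRecDepth 100000 in
set_option synthInstance.maxHeartbeats 400000 in
set_option synthInstance.maxSize 4096 in
theorem mdl_partner : ∀ m : Mdl, m * m = 1 → m ≠ 1 → m ≠ cM →
    ∃ a : Mdl, a * a = 1 ∧ m * a = a * m ∧ a ≠ 1 ∧ a ≠ m ∧
      a⁻¹ * cM ≠ 1 ∧ a⁻¹ * cM ≠ m := by
  decide +kernel

set_option maxRecDepth 100000 in
theorem mdl_central : ∀ x : Mdl, x * cM = cM * x ∧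
    cM * cM = 1 ∧
    cM ≠ 1 := by
  decide +kernel

/-- the model statement. -/
theorem mdl_E8 (m : Mdl) (h1 : m * m = 1) (h2 : m ≠ 1) (h3 : m ≠ cM) :
    ∃ E : Subgroup Mdl, Nat.card ↥E = 8 ∧ (∀ x ∈ E, x * x = 1) ∧
      cM ∈ E ∧ m ∈ E := by
  obtain ⟨a, ha1, hma, hane, ham, hc1, hc2⟩ := mdl_partner m h1 h2 h3
  obtain ⟨-, hcc, hcne⟩ := mdl_central 1
  have hcen : ∀ x : Mdl, x * cM = cM * x :=
    fun x => (mdl_central x).1
  -- step 1
  obtain ⟨k1, s1, m1⟩ := step_invol (⊥ : Subgroup Mdl) m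
    (by intro n hn; rw [Subgroup.mem_bot.mp hn]; simp) h1
    (by rw [Subgroup.mem_bot]; exact h2) (by intro n hn; rw [Subgroup.mem_bot.mp hn]; simp)
  have m1' : ∀ x, x ∈ (⊥ : Subgroup Mdl) ⊔ Subgroup.zpowers m ↔ x = 1 ∨ x = m := by
    intro x
    rw [m1, Subgroup.mem_bot, Subgroup.mem_bot, inv_mul_eq_one, eq_comm (a := m)]
  -- step 2
  obtain ⟨k2, s2, m2⟩ := step_invol ((⊥ : Subgroup Mdl) ⊔ Subgroup.zpowers m) a
    (by
      intro n hn
      rcases (m1' n).mp hn with rfl | rfl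
      · simp
      · exact hma)
    ha1 (by rw [m1']; push Not; exact ⟨hane, ham⟩) s1
  -- step 3
  obtain ⟨k3, s3, m3⟩ := step_invol
    (((⊥ : Subgroup Mdl) ⊔ Subgroup.zpowers m) ⊔ Subgroup.zpowers a) cM
    (fun n _ => hcen n) hcc
    (by
      rw [m2, m1', m1']
      push Not
      exact ⟨⟨hcne, Ne.symm h3⟩, hc1, hc2⟩) s2
  refine ⟨_, ?_, s3, ?_, ?_⟩
  · rw [k3, k2, k1, Subgroup.card_bot]
  · exact Subgroup.mem_sup_right (Subgroup.mem_zpowers _)
  · exact Subgroup.mem_sup_left (Subgroup.mem_sup_left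
      (Subgroup.mem_sup_right (Subgroup.mem_zpowers _)))

theorem pkgO4 : Cfsg.Agent.Lib.Helper12.KS.PkgO4.{u} := by
  intro G _ _ P T Q W c hside u hu huu hu1 huc
  obtain ⟨e, -, -, -, hce⟩ := hside.ex
  have hm1 : e ⟨u, hu⟩ * e ⟨u, hu⟩ = 1 := by
    rw [← map_mul]
    have : (⟨u, hu⟩ : ↥P) * ⟨u, hu⟩ = 1 := Subtype.ext huu
    rw [this, map_one]
  have hm2 : e ⟨u, hu⟩ ≠ 1 := by
    intro h
    apply hu1
    have h' : (⟨u, hu⟩ : ↥P) = 1 := e.injective (by rw [h, map_one])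
    exact congrArg Subtype.val h'
  have hm3 : e ⟨u, hu⟩ ≠ cM := by
    intro h
    exact huc ((hce ⟨u, hu⟩).mpr h)
  obtain ⟨E, hE8, hEsq, hcE, hmE⟩ := mdl_E8 (e ⟨u, hu⟩) hm1 hm2 hm3
  refine ⟨(E.map e.symm.toMonoidHom).map P.subtype, Subgroup.map_subtype_le _, ?_, ?_, ?_, ?_⟩
  · rw [Subgroup.card_map_of_injective P.subtype_injective,
      Subgroup.card_map_of_injective e.symm.injective, hE8]
  · rintro _ ⟨_, ⟨y, hy, rfl⟩, rfl⟩
    have h1 := hEsq y hy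
    have h2 : e.symm.toMonoidHom y * e.symm.toMonoidHom y = 1 := by
      rw [← map_mul, h1, map_one]
    have h3 := congrArg Subtype.val h2
    simpa using h3
  · refine ⟨e.symm cM, ⟨_, hcE, rfl⟩, ?_⟩
    exact (hce _).mpr (e.apply_symm_apply _)
  · refine ⟨⟨u, hu⟩, ⟨_, hmE, ?_⟩, rfl⟩
    exact e.symm_apply_apply _

end Cfsg.Agent.Lib.Helper97.KS
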